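import Cfsg.Agent.Lib.Helper81.CharCorr
import Cfsg.Agent.Lib.Helper81.CharProd

/-!
# helper1 CD3B server: definitions

`stab W hW θ` : the inertia group in `G` of a function `θ` on the normal subgroup `W`.
`Lam ω` : the linear characters `ν` of a group with `ν * ω = ω`.
-/

set_option autoImplicit false

namespace Cfsg.Agent.Helper1.CD3

open Cfsg Cfsg.Agent.Helper81

universe u

/-- The inertia group (stabiliser under conjugation) of a function on a normal subgroup. -/
def stab {G : Type u} [Group G] (W : Subgroup G) (hW : W.Normal) (θ : W → ℂ) : Subgroup G where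
  carrier := {g | conjFun W hW θ g = θ}
  one_mem' := conjFun_one W hW θ
  mul_mem' := by
    intro a b ha hb
    simp only [Set.mem_setOf_eq] at ha hb ⊢
    rw [← conjFun_mul, ha, hb]
  inv_mem' := by
    intro a ha
    simp only [Set.mem_setOf_eq] at ha ⊢
    have h := conjFun_mul W hW θ a a⁻¹
    rw [ha, mul_inv_cancel, conjFun_one] at h
    exact h

theorem mem_stab {G : Type u} [Group G] (W : Subgroup G) (hW : W.Normal) (θ : W → ℂ) (g : G) :
    g ∈ stab W hW θ ↔ conjFun W hW θ g = θ := Iff.rfl

/-- The linear characters `ν` with `ν * ω = ω`. -/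
def Lam {W : Type u} [Group W] (ω : W → ℂ) : Set (W → ℂ) :=
  {ν | IsIrrCharacter W ν ∧ ν 1 = 1 ∧ ∀ w : W, ν w * ω w = ω w}

end Cfsg.Agent.Helper1.CD3
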