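import Cfsg.Agent.Lib.Helper12.CD3BK2
import Cfsg.Agent.Lib.Helper12.CD3BK3
import Cfsg.Agent.Lib.Helper41.CD3BK4
import Cfsg.Agent.Lib.Helper22.CD3BK5
import Cfsg.Agent.Lib.Helper56.CD3BK7
import Cfsg.Agent.Lib.Helper66.CD3BK6

set_option autoImplicit false

namespace Cfsg.Agent.Helper1.CD3

open Cfsg Cfsg.Agent.Helper81

universe u

/-- KEY LEMMA (relative Isaacs–Knutson with extendible linear characters). -/
theorem key_lemma {G : Type u} [Group G] [Finite G] (W : Subgroup G) (hW : W.Normal)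
    (hsolv : Group.IsSolvable W) (n : ℕ)
    (ha : ∀ χ : G → ℂ, IsIrrCharacter G χ → (∃ w : W, χ w ≠ χ 1) → χ 1 = (n : ℂ))
    (hb : ∀ ν : W → ℂ, IsIrrCharacter W ν → ν 1 = 1 → ν ≠ (fun _ => 1) →
      (stab W hW ν).index = n) :
    ∀ x y : W, x * y = y * x := by
  classical
  haveI : Fintype G := Fintype.ofFinite G
  haveI : Fintype W := Fintype.ofFinite W
  haveI : Fintype (commutator W) := Fintype.ofFinite _
  by_contra hna
  obtain ⟨ω, hω, hω1, hker⟩ := Cfsg.Agent.Helper56.CD3B.exists_nonlinear_meta hsolv hna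
  obtain ⟨d, hdpos, hd⟩ := irr_one_pos hω
  have hωne : ω ≠ fun _ => 1 := by
    intro h
    apply hω1
    rw [h]
  obtain ⟨χ, hχ, hχω, hχW⟩ := Cfsg.Agent.Helper12.CD3B.exists_over W hW hω hωne
  have hχn : χ 1 = (n : ℂ) := ha χ hχ hχW
  obtain ⟨e, hepos, hχe⟩ := Cfsg.Agent.Helper12.CD3B.degree_over W hW hχ hω hχω d hd
  have hn : n = e * (stab W hW ω).index * d := by
    have : ((n : ℕ) : ℂ) = ((e * (stab W hW ω).index * d : ℕ) : ℂ) := by rw [← hχn, hχe]
    exact_mod_cast this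
  have hidx : 0 < (stab W hW ω).index := by
    have : (stab W hW ω).index ≠ 0 := Subgroup.index_ne_zero_of_finite
    omega
  have hnpos : 0 < n := by
    rw [hn]; positivity
  have hlin : ∀ ν ∈ Lam ω, ν ≠ (fun _ => 1) → (stab W hW ν).index = n := by
    intro ν hν hne
    exact hb ν hν.1 hν.2.1 hne
  have hdvd : d ∣ Nat.card (Lam ω) - 1 := Cfsg.Agent.Helper41.CD3B.orbit_count W hW ω d e n hn hnpos hlin
  have hL := Cfsg.Agent.Helper22.CD3B.card_Lam hω
  obtain ⟨e1, t1, hcl, hdet⟩ := Cfsg.Agent.Helper66.CD3B.clifford_meta hω hker d hd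
  have hcard : Nat.card (Lam ω) = e1 ^ 2 * t1 := by
    have : ((Nat.card (Lam ω) : ℕ) : ℂ) = ((e1 ^ 2 * t1 : ℕ) : ℂ) := by rw [← hL, hcl]
    exact_mod_cast this
  -- d = e1 * t1 divides e1 * d - 1
  have hcard' : Nat.card (Lam ω) = e1 * d := by rw [hcard, hdet]; ring
  rw [hcard'] at hdvd
  have he1 : 0 < e1 := by
    rcases Nat.eq_zero_or_pos e1 with h | h
    · rw [h] at hdet; omega
    · exact h
  have hpos : 1 ≤ e1 * d := Nat.mul_pos he1 hdpos
  have hd1 : d ∣ 1 := by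
    have h1 : d ∣ e1 * d := Dvd.intro_left e1 rfl
    have h2 : d ∣ e1 * d - (e1 * d - 1) := Nat.dvd_sub h1 hdvd
    have h3 : e1 * d - (e1 * d - 1) = 1 := by omega
    rwa [h3] at h2
  have hdeq : d = 1 := Nat.dvd_one.mp hd1
  apply hω1
  rw [hd, hdeq]
  simp

end Cfsg.Agent.Helper1.CD3
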