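import Cfsg.Agent.Lib.Helper10.CD3BQ1
import Cfsg.Agent.Lib.Helper58.CD3BQ2
import Cfsg.Agent.Lib.Helper19.CD3BP2
import Cfsg.Agent.Lib.Helper19.CD3BG2
import Cfsg.Agent.Lib.Helper9.CD3BG1
import Cfsg.Agent.Lib.Helper42.CD3BP4
import Cfsg.Agent.Lib.Helper24.CD3BP5
import Cfsg.Agent.Lib.Helper57.CD3BP1
import Cfsg.Agent.Lib.Helper60.CD3BP3
import Cfsg.Agent.Lib.Helper1.CD3.Key
import Cfsg.Agent.Lib.Helper81.CharSylInd
import Cfsg.Agent.S4456

set_option autoImplicit false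
set_option linter.style.haveILetI false

namespace Cfsg.Agent.Helper1.CD3

open Cfsg Cfsg.Agent.Helper81
open scoped Pointwise commutatorElement

universe u

/-- Commutator of a product of two elementwise commuting subgroups, the second abelian. -/
theorem commutator_sup_le {Φ : Type u} [Group Φ] (W Q : Subgroup Φ) [hWn : W.Normal]
    (hWQ : ∀ w ∈ W, ∀ q ∈ Q, q * w = w * q) (hQ : ∀ x ∈ Q, ∀ y ∈ Q, x * y = y * x) :
    ⁅W ⊔ Q, W ⊔ Q⁆ ≤ ⁅W, W⁆ := by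
  rw [Subgroup.commutator_le]
  intro g hg h hh
  have hset : ((W ⊔ Q : Subgroup Φ) : Set Φ) = (W : Set Φ) * (Q : Set Φ) := Subgroup.normal_mul W Q
  have hg' : g ∈ (W : Set Φ) * (Q : Set Φ) := by rw [← hset]; exact hg
  have hh' : h ∈ (W : Set Φ) * (Q : Set Φ) := by rw [← hset]; exact hh
  obtain ⟨w, hw, q, hq, rfl⟩ := Set.mem_mul.mp hg'
  obtain ⟨w', hw', q', hq', rfl⟩ := Set.mem_mul.mp hh'
  have key : ⁅w * q, w' * q'⁆ = ⁅w, w'⁆ := by
    have c1 : q * w' = w' * q := hWQ w' hw' q hq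
    have c2 : q' * w = w * q' := hWQ w hw q' hq'
    have c3 : q * q' = q' * q := hQ q hq q' hq'
    have c4 : q' * w⁻¹ = w⁻¹ * q' := by
      have := hWQ w⁻¹ (W.inv_mem hw) q' hq'
      exact this
    rw [commutatorElement_def, commutatorElement_def]
    calc w * q * (w' * q') * (w * q)⁻¹ * (w' * q')⁻¹
        = w * (q * w') * q' * q⁻¹ * w⁻¹ * q'⁻¹ * w'⁻¹ := by group
      _ = w * (w' * q) * q' * q⁻¹ * w⁻¹ * q'⁻¹ * w'⁻¹ := by rw [c1]
      _ = w * w' * (q * q') * q⁻¹ * w⁻¹ * q'⁻¹ * w'⁻¹ := by group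
      _ = w * w' * (q' * q) * q⁻¹ * w⁻¹ * q'⁻¹ * w'⁻¹ := by rw [c3]
      _ = w * w' * (q' * w⁻¹) * q'⁻¹ * w'⁻¹ := by group
      _ = w * w' * (w⁻¹ * q') * q'⁻¹ * w'⁻¹ := by rw [c4]
      _ = w * w' * w⁻¹ * w'⁻¹ := by group
  rw [key]
  exact Subgroup.commutator_mem_commutator hw hw'

/-- Φ-level assembly: `Φ'' ≤ [R,Φ]'`. -/
theorem phi_der2 {Φ : Type u} [Group Φ] [Finite Φ] (p a : ℕ) [Fact p.Prime] (ha : 0 < a)
    (h2 : ∀ θ : Φ → ℂ, IsIrrCharacter Φ θ → θ 1 ≠ 1 →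
      ∃ d : ℕ, θ 1 = (d : ℂ) ∧ d.factorization p = a)
    (R : Subgroup Φ) (hR : R.Normal) (hRc : (Nat.card R).Coprime p)
    (hRi : ∃ k : ℕ, R.index = p ^ k) (P : Sylow p Φ) :
    ⁅commutator Φ, commutator Φ⁆ ≤
      ⁅⁅R, (⊤ : Subgroup Φ)⁆, ⁅R, (⊤ : Subgroup Φ)⁆⁆ := by
  haveI := hR
  have hder := Cfsg.Agent.Helper19.CD3B.der_le p R hR hRc hRi P
  have hQab := Cfsg.Agent.Helper60.CD3B.sylow_der_comm p a ha h2 R hR hRc hRi P
  have hWR : ⁅R, (⊤ : Subgroup Φ)⁆ ≤ R := Subgroup.commutator_le_left R ⊤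
  have hQΦ : ⁅(P : Subgroup Φ), (P : Subgroup Φ)⁆ ≤ commutator Φ := by
    rw [commutator_def]
    exact Subgroup.commutator_mono le_top le_top
  have hQP : ⁅(P : Subgroup Φ), (P : Subgroup Φ)⁆ ≤ (P : Subgroup Φ) :=
    Subgroup.commutator_le_self (P : Subgroup Φ)
  have hWQ : ∀ w ∈ ⁅R, (⊤ : Subgroup Φ)⁆, ∀ q ∈ ⁅(P : Subgroup Φ), (P : Subgroup Φ)⁆,
      q * w = w * q := by
    intro w hw q hq
    have hqord : ∃ k : ℕ, orderOf q = p ^ k := by
      have := P.isPGroup' ⟨q, hQP hq⟩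
      obtain ⟨k, hk⟩ := this
      have h1 : q ^ p ^ k = 1 := by
        have := congrArg Subtype.val hk
        simpa using this
      have hdvd : orderOf q ∣ p ^ k := orderOf_dvd_of_pow_eq_one h1
      obtain ⟨j, _, hj⟩ := (Nat.dvd_prime_pow (Fact.out : p.Prime)).mp hdvd
      exact ⟨j, hj⟩
    have hfix : ∀ ρ : R → ℂ, IsIrrCharacter R ρ → conjFun R hR ρ q = ρ := by
      intro ρ hρ
      exact Cfsg.Agent.Helper42.CD3B.taketa p a ha h2 R hR hRi ρ hρ q (hQΦ hq)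
    exact Cfsg.Agent.Helper24.CD3B.p_central p R hR hRc q hqord hfix w (hWR hw)
  have hsup : ⁅⁅R, (⊤ : Subgroup Φ)⁆ ⊔ ⁅(P : Subgroup Φ), (P : Subgroup Φ)⁆,
      ⁅R, (⊤ : Subgroup Φ)⁆ ⊔ ⁅(P : Subgroup Φ), (P : Subgroup Φ)⁆⁆ ≤
      ⁅⁅R, (⊤ : Subgroup Φ)⁆, ⁅R, (⊤ : Subgroup Φ)⁆⁆ :=
    commutator_sup_le _ _ hWQ hQab
  exact le_trans (Subgroup.commutator_mono hder hder) hsup

end Cfsg.Agent.Helper1.CD3

namespace Cfsg.Agent.Helper1.CD3

open Cfsg Cfsg.Agent.Helper81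
open scoped Pointwise commutatorElement

universe u

theorem map_top_subtype {G : Type u} [Group G] (F : Subgroup G) :
    (⊤ : Subgroup F).map F.subtype = F := by
  rw [← MonoidHom.range_eq_map, Subgroup.range_subtype]

/-- arithmetic: a Sylow `p`-subgroup and a normal `p`-complement have complementary orders -/
theorem card_mul_card_sylow {Φ : Type u} [Group Φ] [Finite Φ] (p : ℕ) [hp : Fact p.Prime]
    (R : Subgroup Φ) (hRc : (Nat.card R).Coprime p) (hRi : ∃ k : ℕ, R.index = p ^ k)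
    (P : Sylow p Φ) : Nat.card R * Nat.card (P : Subgroup Φ) = Nat.card Φ := by
  obtain ⟨k, hk⟩ := hRi
  have h1 : Nat.card R * p ^ k = Nat.card Φ := by rw [← hk]; exact R.card_mul_index
  have hR0 : Nat.card R ≠ 0 := Nat.card_pos.ne'
  have hfac : (Nat.card Φ).factorization p = k := by
    rw [← h1, Nat.factorization_mul hR0 (pow_ne_zero k hp.out.ne_zero)]
    have : (Nat.card R).factorization p = 0 := by
      apply Nat.factorization_eq_zero_of_not_dvd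
      intro hd
      have := Nat.Coprime.eq_one_of_dvd hRc.symm hd
      exact hp.out.one_lt.ne' this
    simp [this, hp.out.factorization_self]
  rw [P.card_eq_multiplicity, hfac, h1]

/-- MAIN (interface for helper55): case (B2), `p ∣ n`. -/
theorem main {G : Type u} [Group G] [Finite G] (F : Subgroup G) (hF : F.Normal)
    (hsolv : Group.IsSolvable F)
    (p a n : ℕ) [hp : Fact p.Prime] (ha : 0 < a)
    (h1 : ∀ χ : G → ℂ, IsIrrCharacter G χ → (∃ x ∈ ⁅F, F⁆, χ x ≠ χ 1) → χ 1 = (n : ℂ))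
    (h2 : ∀ θ : F → ℂ, IsIrrCharacter F θ → θ 1 ≠ 1 →
      ∃ d : ℕ, θ 1 = (d : ℂ) ∧ d.factorization p = a) :
    ⁅⁅F, F⁆, ⁅F, F⁆⁆ = ⊥ := by
  classical
  haveI := hF
  haveI : Fintype G := Fintype.ofFinite G
  -- Thompson
  have hdeg : ∀ χ : Cfsg.IrrCharacter F, Cfsg.charDegree (χ : F → ℂ) ≠ 1 →
      p ∣ Cfsg.charDegree (χ : F → ℂ) := by
    intro χ hχ1
    obtain ⟨d, _, hd⟩ := irr_one_pos χ.2
    have hcd : Cfsg.charDegree (χ : F → ℂ) = d := charDegree_eq_of_one d hd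
    rw [hcd] at hχ1 ⊢
    have hne : (χ : F → ℂ) 1 ≠ 1 := by
      rw [hd]; intro h; apply hχ1; exact_mod_cast h
    obtain ⟨d', hd', hfac⟩ := h2 χ.1 χ.2 hne
    have : d = d' := by
      have : (d : ℂ) = (d' : ℂ) := by rw [← hd, hd']
      exact_mod_cast this
    rw [this]
    apply Nat.dvd_of_factorization_pos
    rw [hfac]; omega
  obtain ⟨R₀, hR₀, hRc₀, hRi₀⟩ := Cfsg.Agent.S4456.result p hp.out hdeg
  have P₀ : Sylow p F := default
  -- Φ-level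
  have hΦ := phi_der2 p a ha h2 R₀ hR₀ hRc₀ hRi₀ P₀
  have hcomm₀ := Cfsg.Agent.Helper57.CD3B.comm_le p a ha h2 R₀ hR₀ hRc₀ hRi₀ P₀
  -- G-level objects
  have hinj : Function.Injective F.subtype := F.subtype_injective
  have hcop : (Nat.card R₀).Coprime R₀.index := by
    obtain ⟨k, hk⟩ := hRi₀
    rw [hk]
    exact Nat.Coprime.pow_right k hRc₀
  have hRn : (R₀.map F.subtype).Normal := Cfsg.Agent.Helper19.CD3B.normal_hall_map F hF R₀ hR₀ hcop
  haveI := hRn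
  set R : Subgroup G := R₀.map F.subtype with hRdef
  set P : Subgroup G := (P₀ : Subgroup F).map F.subtype with hPdef
  have hRF : R ≤ F := Subgroup.map_subtype_le R₀
  have hPF : P ≤ F := Subgroup.map_subtype_le _
  have hRc : (Nat.card R).Coprime p := by
    rw [hRdef, Subgroup.card_map_of_injective hinj]; exact hRc₀
  have hPp : IsPGroup p P := P₀.isPGroup'.map F.subtype
  have hcard : Nat.card R * Nat.card P = Nat.card F := by
    rw [hRdef, hPdef, Subgroup.card_map_of_injective hinj, Subgroup.card_map_of_injective hinj]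
    exact card_mul_card_sylow p R₀ hRc₀ hRi₀ P₀
  have hWmap : (⁅R₀, (⊤ : Subgroup F)⁆).map F.subtype = ⁅R, F⁆ := by
    rw [Subgroup.map_commutator, map_top_subtype]
  have hcomm : ⁅R, F⁆ ≤ ⁅R, P⁆ := by
    rw [← hWmap, hPdef, hRdef, ← Subgroup.map_commutator]
    exact Subgroup.map_mono hcomm₀
  obtain ⟨hsup, hint⟩ := Cfsg.Agent.Helper9.CD3B.supplement p F R P hF hRn hRF hPF hRc hPp hcard hcomm
  -- key lemma
  have hWn : (⁅R, F⁆).Normal := Subgroup.commutator_normal R F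
  have hWF : ⁅R, F⁆ ≤ F := le_trans (Subgroup.commutator_le_right R F) le_rfl
  have hWsolv : Group.IsSolvable (⁅R, F⁆ : Subgroup G) := by
    haveI := hsolv
    exact Group.isSolvable_of_isSolvable_injective (Subgroup.inclusion_injective hWF)
  have hWder : ⁅R, F⁆ ≤ ⁅F, F⁆ := Subgroup.commutator_mono hRF le_rfl
  have haW : ∀ χ : G → ℂ, IsIrrCharacter G χ →
      (∃ w : (⁅R, F⁆ : Subgroup G), χ w ≠ χ 1) → χ 1 = (n : ℂ) := by
    intro χ hχ ⟨w, hw⟩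
    exact h1 χ hχ ⟨(w : G), hWder w.2, hw⟩
  have hbW : ∀ ν : (⁅R, F⁆ : Subgroup G) → ℂ, IsIrrCharacter (⁅R, F⁆ : Subgroup G) ν → ν 1 = 1 →
      ν ≠ (fun _ => 1) → (stab ⁅R, F⁆ hWn ν).index = n := by
    intro ν hν hν1 hne
    obtain ⟨hle, μ, hμ, hμ1, hext⟩ :=
      Cfsg.Agent.Helper10.CD3B.exists_extension ⁅R, F⁆ hWn (Subgroup.normalizer (P : Set G)) hsup hint ν hν hν1
    haveI : Fintype (⁅R, F⁆ : Subgroup G) := Fintype.ofFinite _
    exact Cfsg.Agent.Helper58.CD3B.index_of_extension ⁅R, F⁆ hWn n haW ν hν hne hle μ hμ hμ1 hext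
  have hab := key_lemma ⁅R, F⁆ hWn hWsolv n haW hbW
  have hWW : ⁅⁅R, F⁆, ⁅R, F⁆⁆ = ⊥ := by
    rw [Subgroup.commutator_eq_bot_iff_le_centralizer]
    intro x hx y hy
    have := hab ⟨y, hy⟩ ⟨x, hx⟩
    exact congrArg Subtype.val this
  -- back to Φ
  have hW₀ : ⁅⁅R₀, (⊤ : Subgroup F)⁆, ⁅R₀, (⊤ : Subgroup F)⁆⁆ = ⊥ := by
    rw [← Subgroup.map_eq_bot_iff_of_injective _ hinj, Subgroup.map_commutator, hWmap, hWW]
  have hΦ' : ⁅commutator F, commutator F⁆ = ⊥ := by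
    rw [hW₀] at hΦ
    exact le_bot_iff.mp hΦ
  have hder : (commutator F).map F.subtype = ⁅F, F⁆ := by
    rw [commutator_def, Subgroup.map_commutator, map_top_subtype]
  rw [← hder, ← Subgroup.map_commutator, hΦ', Subgroup.map_bot]

end Cfsg.Agent.Helper1.CD3
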